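import Groth.Agent.Lib.P1Split17.Basis
import Groth.Agent.Lib.ModM1.Stalk
import Groth.Agent.Lib.TensorMod.Invertible
import Mathlib.LinearAlgebra.Matrix.Adjugate
import Mathlib.RingTheory.Ideal.Maximal

/-!
# Bases of a locally free module near finitely many points of an affine open
-/

set_option autoImplicit false
set_option linter.style.haveILetI false
set_option backward.isDefEq.respectTransparency false
set_option backward.isDefEq.respectTransparency.types false

universe u

open CategoryTheory CategoryTheory.Limits AlgebraicGeometry TopologicalSpace Opposite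

noncomputable section

namespace Groth.Agent.DetDeg13

open Groth.Agent.M1 Groth.Agent.P1Split

/-- A family is a basis when its matrix in a basis is invertible. -/
theorem bijective_linearCombination_of_det {R M : Type u} [CommRing R] [AddCommGroup M] [Module R M] {n : ℕ}
    {e v : Fin n → M} (he : Function.Bijective (Fintype.linearCombination R e)) (T : Matrix (Fin n) (Fin n) R)
    (hT : IsUnit T.det) (hv : ∀ j, v j = ∑ i, T i j • e i) :
    Function.Bijective (Fintype.linearCombination R v) := by
  have key : ∀ c, Fintype.linearCombination R v c = Fintype.linearCombination R e (T.mulVec c) := fun c => by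
    simp only [Fintype.linearCombination_apply, hv, Finset.smul_sum, Matrix.mulVec, dotProduct, Finset.sum_smul,
      smul_smul]
    rw [Finset.sum_comm]
    exact Finset.sum_congr rfl fun i _ => Finset.sum_congr rfl fun j _ => by rw [mul_comm]
  obtain ⟨u, hu⟩ := hT
  have hb : Function.Bijective T.mulVec := by
    refine Function.bijective_iff_has_inverse.2 ⟨fun c => ((↑u⁻¹ : R) • T.adjugate).mulVec c, fun c => ?_, fun c => ?_⟩
    · show ((↑u⁻¹ : R) • T.adjugate).mulVec (T.mulVec c) = c
      rw [Matrix.mulVec_mulVec, Matrix.smul_mul, Matrix.adjugate_mul, ← hu, smul_smul, Units.inv_mul, one_smul,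
        Matrix.one_mulVec]
    · show T.mulVec (((↑u⁻¹ : R) • T.adjugate).mulVec c) = c
      rw [Matrix.mulVec_mulVec, Matrix.mul_smul, Matrix.mul_adjugate, ← hu, smul_smul, Units.inv_mul, one_smul,
        Matrix.one_mulVec]
  rw [show ⇑(Fintype.linearCombination R v) = ⇑(Fintype.linearCombination R e) ∘ T.mulVec from funext key]
  exact he.comp hb

variable {X : Scheme.{u}} {n : ℕ}

theorem isBas_bij {M : X.Modules} {U : X.Opens} {e : Fin n → Γ(M, U)} (he : IsBas M U e) {x : X} (hx : x ∈ U) :
    Function.Bijective (Fintype.linearCombination (X.presheaf.stalk x)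
      fun i => (M.presheaf.germ U x hx (e i) : M.presheaf.stalk x)) := he.stalk hx

/-- Being a basis at a point spreads to a neighbourhood. -/
theorem exists_isBas_open {E : X.Modules} (hE : FlatMod.IsFinLocFreeOfRank n E) {W : X.Opens} (t : Fin n → Γ(E, W))
    {y : X} (hy : y ∈ W) (ht : Function.Bijective (Fintype.linearCombination (X.presheaf.stalk y)
      fun i => (E.presheaf.germ W y hy (t i) : E.presheaf.stalk y))) :
    ∃ (D : X.Opens) (h : D ≤ W), y ∈ D ∧ IsBas E D fun i => mres E h (t i) := by
  classical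
  obtain ⟨D₀, e, hyD, he⟩ := exists_isBas_nhd hE y
  let V := D₀ ⊓ W
  choose T hT using fun j => (he V inf_le_left).2 (mres E inf_le_right (t j))
  let d : Γ(X, V) := Matrix.det (Matrix.of fun i j => T j i)
  have hgerm : ∀ (x : X) (hx : x ∈ V) (j : Fin n), E.presheaf.germ W x hx.2 (t j) =
      ∑ i, X.presheaf.germ V x hx (T j i) • (E.presheaf.germ D₀ x hx.1 (e i) : E.presheaf.stalk x) := fun x hx j => by
    rw [← germ_mres E (inf_le_right : V ≤ W) hx, ← hT j]
    simp only [germ_sum_smul]
    exact Finset.sum_congr rfl fun i _ => congrArg _ (germ_mres E (inf_le_left : D₀ ⊓ W ≤ D₀) hx (e i))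
  have hdet : ∀ (x : X) (hx : x ∈ V), (Matrix.of fun i j => X.presheaf.germ V x hx (T j i)).det =
      X.presheaf.germ V x hx d := fun x hx => (RingHom.map_det (X.presheaf.germ V x hx).hom _).symm
  have hyV : y ∈ V := ⟨hyD, hy⟩
  have hu : IsUnit (X.presheaf.germ V y hyV d) := by
    let Le := LinearEquiv.ofBijective _ (isBas_bij he hyV.1)
    let Lt := LinearEquiv.ofBijective _ ht
    rw [← hdet y hyV]
    let A : Matrix (Fin n) (Fin n) (X.presheaf.stalk y) := Matrix.of fun i j => X.presheaf.germ V y hyV (T j i)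
    let B : Matrix (Fin n) (Fin n) (X.presheaf.stalk y) :=
      Matrix.of fun i j => Lt.symm (E.presheaf.germ D₀ y hyV.1 (e j)) i
    have hAB : A * B = 1 := by
      ext l j
      have h1 : (E.presheaf.germ D₀ y hyV.1 (e j) : E.presheaf.stalk y) =
          Le (fun l => ∑ i, A l i * B i j) := by
        conv_lhs => rw [← Lt.apply_symm_apply (E.presheaf.germ D₀ y hyV.1 (e j))]
        show ∑ i, B i j • E.presheaf.germ W y hyV.2 (t i) = ∑ l, (∑ i, A l i * B i j) • _
        simp only [hgerm y hyV, Finset.smul_sum, Finset.sum_smul, smul_smul]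
        rw [Finset.sum_comm]
        exact Finset.sum_congr rfl fun i _ => Finset.sum_congr rfl fun k _ => by rw [mul_comm]; rfl
      have h2 : (E.presheaf.germ D₀ y hyV.1 (e j) : E.presheaf.stalk y) = Le (Pi.single j 1) := by
        show _ = Fintype.linearCombination (X.presheaf.stalk y) _ (Pi.single j 1)
        rw [Fintype.linearCombination_apply_single, one_smul]
      have h3 := congrFun (Le.injective (h1.symm.trans h2)) l
      rw [Matrix.mul_apply, Matrix.one_apply]
      rw [Pi.single_apply] at h3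
      exact h3
    exact IsUnit.of_mul_eq_one B.det (by rw [← Matrix.det_mul, hAB, Matrix.det_one])
  refine ⟨X.basicOpen d, (X.basicOpen_le d).trans inf_le_right, (X.mem_basicOpen d y hyV).2 hu, isBas_of_stalk ?_⟩
  intro x hx
  have hxV : x ∈ V := X.basicOpen_le d hx
  have : (fun i => (E.presheaf.germ (X.basicOpen d) x hx (mres E ((X.basicOpen_le d).trans inf_le_right) (t i)) :
      E.presheaf.stalk x)) = fun i => E.presheaf.germ W x hxV.2 (t i) := funext fun i => germ_mres _ _ _ _
  show Function.Bijective (Fintype.linearCombination (X.presheaf.stalk x) fun i =>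
    (E.presheaf.germ (X.basicOpen d) x hx (mres E ((X.basicOpen_le d).trans inf_le_right) (t i)) : E.presheaf.stalk x))
  rw [this]
  exact bijective_linearCombination_of_det (isBas_bij he hxV.1) _
    ((hdet x hxV).symm ▸ (X.mem_basicOpen d x hxV).1 hx) (hgerm x hxV)

/-- A basis near finitely many points of an affine open. -/
theorem exists_isBas_finite {E : X.Modules} (hE : FlatMod.IsFinLocFreeOfRank n E) {W : X.Opens}
    (hW : IsAffineOpen W) {Z : Set X} (hZ : Z.Finite) (hZW : Z ⊆ W) :
    ∃ (D : X.Opens) (t : Fin n → Γ(E, D)), D ≤ W ∧ Z ⊆ D ∧ IsBas E D t := by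
  classical
  haveI : Coh.IsQCoh E := isFP_isQCoh (isFP_of_isFinLocFree (M2.isFinLocFree_of_ofRank hE))
  haveI := hZ.fintype
  have hm : ∀ z : Z, ∃ m : Ideal Γ(X, W), m.IsMaximal ∧ (hW.primeIdealOf ⟨z.1, hZW z.2⟩).asIdeal ≤ m := fun z =>
    Ideal.exists_le_maximal _ (hW.primeIdealOf ⟨z.1, hZW z.2⟩).isPrime.ne_top
  choose m hm hle using hm
  let 𝔐 : Finset (Ideal Γ(X, W)) := Finset.univ.image m
  have hmax : ∀ p : 𝔐, (p.1).IsMaximal := fun p => by
    obtain ⟨z, -, hz⟩ := Finset.mem_image.1 p.2
    exact hz ▸ hm z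
  let y : 𝔐 → X := fun p => hW.fromSpec ⟨p.1, (hmax p).isPrime⟩
  have hy : ∀ p, y p ∈ W := fun p => by
    rw [← SetLike.mem_coe, ← hW.range_fromSpec]; exact ⟨_, rfl⟩
  have hprime : ∀ p, (hW.primeIdealOf ⟨y p, hy p⟩).asIdeal = p.1 := fun p => by
    have h1 : hW.fromSpec (hW.primeIdealOf ⟨y p, hy p⟩) = hW.fromSpec ⟨p.1, (hmax p).isPrime⟩ :=
      hW.fromSpec_primeIdealOf ⟨y p, hy p⟩
    rw [hW.fromSpec.isOpenEmbedding.injective h1]
  have hsel : ∀ p : 𝔐, ∃ a : Fin n → Γ(E, W), Function.Bijective (Fintype.linearCombination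
      (X.presheaf.stalk (y p)) fun i => (E.presheaf.germ W (y p) (hy p) (a i) : E.presheaf.stalk (y p))) := fun p => by
    obtain ⟨D₀, e, hyD, he⟩ := exists_isBas_nhd hE (y p)
    choose r a hr hra using fun i => exists_germ_smul_eq E hW (hy p) (E.presheaf.germ D₀ (y p) hyD (e i))
    refine ⟨a, bijective_linearCombination_of_det (isBas_bij he hyD)
      (Matrix.diagonal fun i => X.presheaf.germ W (y p) (hy p) (r i)) ?_ fun j => ?_⟩
    · rw [Matrix.det_diagonal]
      exact IsUnit.prod_iff.2 fun i _ => hr i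
    · rw [Finset.sum_eq_single j (fun i _ hij => by rw [Matrix.diagonal_apply_ne _ hij, zero_smul])
        (fun h => absurd (Finset.mem_univ j) h), Matrix.diagonal_apply_eq]
      exact (hra j).symm
  choose a ha using hsel
  have hc : ∀ p : 𝔐, ∃ c : Γ(X, W), c ∉ p.1 ∧ ∀ q : 𝔐, q ≠ p → c ∈ q.1 := fun p => by
    have : ∀ q : 𝔐, q ≠ p → ∃ b, b ∈ q.1 ∧ b ∉ p.1 := fun q hq => SetLike.not_le_iff_exists.1 fun h =>
      hq (Subtype.ext ((hmax q).eq_of_le (hmax p).ne_top h))
    choose b hb hb' using this
    refine ⟨∏ q : {q : 𝔐 // q ≠ p}, b q.1 q.2, fun h => ?_, fun q hq => ?_⟩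
    · obtain ⟨q, -, hq⟩ := (hmax p).isPrime.prod_mem_iff.1 h
      exact hb' q.1 q.2 hq
    · rw [← Finset.mul_prod_erase Finset.univ _ (Finset.mem_univ (⟨q, hq⟩ : {q : 𝔐 // q ≠ p}))]
      exact Ideal.mul_mem_right _ _ (hb q hq)
  choose c hc hc' using hc
  let t : Fin n → Γ(E, W) := fun i => ∑ p, c p • a p i
  have hbas : ∀ p : 𝔐, Function.Bijective (Fintype.linearCombination (X.presheaf.stalk (y p))
      fun i => (E.presheaf.germ W (y p) (hy p) (t i) : E.presheaf.stalk (y p))) := fun p => by
    let La := LinearEquiv.ofBijective _ (ha p)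
    let g := X.presheaf.germ W (y p) (hy p)
    have hu : IsUnit (g (c p)) := (isUnit_germ_iff hW (hy p) _).2 fun h => hc p ((hprime p).le h)
    have hq : ∀ q, q ≠ p → g (c q) ∈ IsLocalRing.maximalIdeal (X.presheaf.stalk (y p)) := fun q hqp hu' =>
      (isUnit_germ_iff hW (hy p) _).1 hu' ((hprime p).ge (hc' q p hqp.symm))
    let T : Matrix (Fin n) (Fin n) (X.presheaf.stalk (y p)) :=
      Matrix.of fun i j => La.symm (E.presheaf.germ W (y p) (hy p) (t j)) i
    refine bijective_linearCombination_of_det (ha p) T ?_ fun j => ?_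
    · have hres : T.map (IsLocalRing.residue (X.presheaf.stalk (y p))) =
          Matrix.diagonal fun _ => IsLocalRing.residue (X.presheaf.stalk (y p)) (g (c p)) := by
        ext i j
        have h1 : La.symm (E.presheaf.germ W (y p) (hy p) (t j)) =
            ∑ q, g (c q) • La.symm (E.presheaf.germ W (y p) (hy p) (a q j)) := by
          simp only [t, map_sum, germ_smul, map_smul]
          rfl
        show IsLocalRing.residue _ (La.symm _ i) = _
        rw [h1, Finset.sum_apply, map_sum, Finset.sum_eq_single p (fun q _ hqp => ?_)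
          (fun h => absurd (Finset.mem_univ p) h)]
        · have h2 : La.symm (E.presheaf.germ W (y p) (hy p) (a p j)) = Pi.single j 1 := La.injective (by
            rw [La.apply_symm_apply]
            show _ = Fintype.linearCombination (X.presheaf.stalk (y p)) _ (Pi.single j 1)
            rw [Fintype.linearCombination_apply_single, one_smul])
          rw [h2, Pi.smul_apply, smul_eq_mul, map_mul, Matrix.diagonal_apply, Pi.single_apply]
          split_ifs <;> simp
        · rw [Pi.smul_apply, smul_eq_mul, map_mul, (IsLocalRing.residue_eq_zero_iff _).2 (hq q hqp), zero_mul]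
      refine (IsLocalRing.residue_ne_zero_iff_isUnit _).1 ?_
      rw [RingHom.map_det, RingHom.mapMatrix_apply, hres, Matrix.det_diagonal, Finset.prod_const]
      exact pow_ne_zero _ ((IsLocalRing.residue_ne_zero_iff_isUnit _).2 hu)
    · exact (La.apply_symm_apply (E.presheaf.germ W (y p) (hy p) (t j))).symm
  choose D hD hyD hDbas using fun p => exists_isBas_open hE t (hy p) (hbas p)
  have hDW : iSup D ≤ W := iSup_le hD
  refine ⟨iSup D, fun i => mres E hDW (t i), hDW, fun z hz => ?_, isBas_of_stalk fun x hx => ?_⟩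
  · let p : 𝔐 := ⟨m ⟨z, hz⟩, Finset.mem_image.2 ⟨_, Finset.mem_univ _, rfl⟩⟩
    refine Opens.mem_iSup.2 ⟨p, Specializes.mem_open ?_ (D p).2 (hyD p)⟩
    have h1 := ((PrimeSpectrum.le_iff_specializes (hW.primeIdealOf ⟨z, hZW hz⟩)
      ⟨p.1, (hmax p).isPrime⟩).1 (hle ⟨z, hz⟩)).map hW.fromSpec.continuous
    rwa [hW.fromSpec_primeIdealOf] at h1
  · obtain ⟨p, hp⟩ := Opens.mem_iSup.1 hx
    have := (hDbas p).stalk hp
    simp only [germ_mres] at this ⊢
    exact this

end Groth.Agent.DetDeg13
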