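import Groth.Agent.Lib.DetDeg13.Count
import Groth.Agent.Lib.DetDeg13.Basis
import Groth.Agent.Lib.Ample18.Sections
import Groth.Agent.Lib.Ample18.Avoid
import Groth.Agent.Lib.WeakAss18.Basic
import Groth.Agent.Lib.BigOpen13.Bidual
import Groth.Agent.Lib.CurveCoh17.Vanish

/-!
# The degree of a locally free module is the degree of its determinant
-/

set_option autoImplicit false
set_option linter.style.haveILetI false
set_option backward.isDefEq.respectTransparency false
set_option backward.isDefEq.respectTransparency.types false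
set_option maxHeartbeats 1000000

universe u

open CategoryTheory CategoryTheory.Limits AlgebraicGeometry TopologicalSpace Opposite TensorProduct

noncomputable section

namespace Groth.Agent.DetDeg13

open Groth.Agent.M1 Groth.Agent.P1Split Groth.Agent.CurveCoh17
open Groth.Agent.M2 (tsec res IsGenerator)
open Groth.Agent.Amp (Gen gm pw)

variable {X : Scheme.{u}} {n : ℕ}

theorem ιMulti_eq_det_smul {A : Type u} [CommRing A] {M : Type u} [AddCommGroup M] [Module A M]
    (b : Module.Basis (Fin n) A M) (v : Fin n → M) (T : Matrix (Fin n) (Fin n) A) (hv : ∀ j, v j = ∑ i, T i j • b i) :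
    exteriorPower.ιMulti A n v = T.det • exteriorPower.ιMulti A n (⇑b) := by
  classical
  obtain ⟨c, hc⟩ := (BigOpen13.bijective_smul_ιMulti b).2 (exteriorPower.ιMulti A n v)
  have hT : b.toMatrix v = T := by
    ext i j
    rw [Module.Basis.toMatrix_apply, hv, b.repr_sum_self]
  have h := congrArg (exteriorPower.alternatingMapLinearEquiv b.det) hc
  rw [map_smul, exteriorPower.alternatingMapLinearEquiv_apply_ιMulti,
    exteriorPower.alternatingMapLinearEquiv_apply_ιMulti, b.det_self, Module.Basis.det_apply, hT, smul_eq_mul,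
    mul_one] at h
  rw [← hc, h]

theorem exists_basis_of_isBas {E : X.Modules} {U : X.Opens} {e : Fin n → Γ(E, U)} (he : IsBas E U e) :
    ∃ b : Module.Basis (Fin n) Γ(X, U) Γ(E, U), ⇑b = e := by
  have h : Function.Bijective (Fintype.linearCombination Γ(X, U) e) := by
    have := he U le_rfl
    simp only [M1.mres_id] at this
    exact this
  refine ⟨Module.Basis.ofEquivFun (LinearEquiv.ofBijective _ h).symm, funext fun i => ?_⟩
  rw [Module.Basis.coe_ofEquivFun]
  show Fintype.linearCombination Γ(X, U) e (Function.update 0 i 1) = _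
  rw [show Function.update (0 : Fin n → Γ(X, U)) i 1 = Pi.single i 1 from rfl,
    Fintype.linearCombination_apply_single, one_smul]

theorem tsec_sum_left {M N : X.Modules} {U : X.Opens} {ι : Type*} (s : Finset ι) (m : ι → Γ(M, U)) (t : Γ(N, U)) :
    tsec M N (∑ i ∈ s, m i) t = ∑ i ∈ s, tsec M N (m i) t :=
  map_sum (AddMonoidHom.mk' (fun a => tsec M N a t) fun a b => M2.tsec_add_left a b t) m s

/-- Tensoring a basis by a generator gives a basis. -/
theorem isBas_tsec {E N : X.Modules} {V : X.Opens} {e : Fin n → Γ(E, V)} (he : IsBas E V e) {g : Γ(N, V)}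
    (hg : ∀ (x : X) (hx : x ∈ V), Gen (gm N x hx g)) :
    IsBas (CohB1.tensorMod E N) V fun i => tsec E N (e i) g := by
  refine isBas_of_stalk fun x hx => ?_
  let γ : X.presheaf.stalk x ≃ₗ[X.presheaf.stalk x] (N.presheaf.stalk x : Type u) :=
    LinearEquiv.ofBijective (LinearMap.toSpanSingleton _ _ (gm N x hx g)) (hg x hx)
  let q : (E.presheaf.stalk x : Type u) ≃ₗ[X.presheaf.stalk x] ((CohB1.tensorMod E N).presheaf.stalk x : Type u) :=
    (TensorProduct.rid _ _).symm.trans ((LinearEquiv.lTensor _ γ).trans (M2.stalkEquiv E N x).symm)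
  have hq : ∀ i, q (E.presheaf.germ V x hx (e i)) =
      (CohB1.tensorMod E N).presheaf.germ V x hx (tsec E N (e i) g) := fun i => by
    apply (M2.stalkEquiv E N x).injective
    rw [M2.stalkEquiv_tsec]
    show M2.stalkEquiv E N x ((M2.stalkEquiv E N x).symm _) = _
    rw [LinearEquiv.apply_symm_apply]
    simp [γ, gm]
  have hfun : (fun c : Fin n → X.presheaf.stalk x =>
      ∑ i, c i • (CohB1.tensorMod E N).presheaf.germ V x hx (tsec E N (e i) g)) =
      q ∘ fun c => ∑ i, c i • (E.presheaf.germ V x hx (e i) : E.presheaf.stalk x) := funext fun c => by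
    simp only [Function.comp_apply, map_sum, map_smul, hq]
  rw [hfun]
  exact q.bijective.comp (he.stalk hx)

/-- A function vanishing on an open containing the associated points vanishes. -/
theorem eq_zero_of_ores [IsLocallyNoetherian X] {V G : X.Opens} (hV : IsAffineOpen V)
    (hG : ∀ y, Curv2.IsWeakAssPoint (Coh.structureModule X) y → y ∈ G) (a : Γ(X, V))
    (h : ores (inf_le_left : V ⊓ G ≤ V) a = 0) : a = 0 := by
  haveI := M1.isQCoh_structureModule X
  refine TopCat.Presheaf.section_ext X.sheaf V a 0 fun x hx => ?_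
  by_contra hne
  change X.presheaf.germ V x hx a ≠ X.presheaf.germ V x hx 0 at hne
  rw [map_zero] at hne
  obtain ⟨y, hyV, -, hwa, hy⟩ := WA.exists_weakAss hV hx (show Γ(Coh.structureModule X, V) from a)
    (fun e => hne ((WA.germ_O_eq_zero_iff hx a).1 e))
  refine hy ((WA.germ_O_eq_zero_iff hyV a).2 ?_)
  have h1 := X.presheaf.germ_res_apply (homOfLE (inf_le_left : V ⊓ G ≤ V)) y ⟨hyV, hG y hwa⟩ a
  change X.presheaf.germ (V ⊓ G) y ⟨hyV, hG y hwa⟩ (ores inf_le_left a) = _ at h1
  rw [h, map_zero] at h1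
  exact h1.symm

theorem gen_of_smul_eq {N : X.Modules} {x : X} {g : (N.presheaf.stalk x : Type u)} (hg : Gen g)
    {c : X.presheaf.stalk x} {a : (N.presheaf.stalk x : Type u)} (ha : Gen a) (h : a = c • g) : IsUnit c :=
  (hg.ne_zero_smul c).1 (h ▸ ha)

theorem gen_top_wedge {E L : X.Modules}
    (φ : ∀ U : X.affineOpens, (L.val.obj (op U.1)) ≃ₗ[Γ(X, U.1)] ↥(⋀[Γ(X, U.1)]^n (E.val.obj (op U.1))))
    (hφ : ∀ (U V : X.affineOpens) (h : V.1 ≤ U.1) (e : Fin n → E.val.obj (op U.1)),
      L.val.map (homOfLE h).op ((φ U).symm (exteriorPower.ιMulti _ n e)) =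
        (φ V).symm (exteriorPower.ιMulti _ n (fun j => E.val.map (homOfLE h).op (e j))))
    (U : X.affineOpens) {e : Fin n → Γ(E, U.1)} (he : IsBas E U.1 e) (y : X) (hy : y ∈ U.1) :
    Gen (gm L y hy ((φ U).symm (exteriorPower.ιMulti _ n e))) := by
  let l : Γ(L, U.1) := (φ U).symm (exteriorPower.ιMulti _ n e)
  have key : ∀ (Q : X.affineOpens) (hQ : Q.1 ≤ U.1),
      Function.Bijective fun r : Γ(X, Q.1) => r • M1.mres L hQ l := by
    intro Q hQ
    obtain ⟨b, hb⟩ := exists_basis_of_isBas (he.mres hQ)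
    have h1 := (φ Q).symm.bijective.comp (BigOpen13.bijective_smul_ιMulti b)
    have h2 : (fun r : Γ(X, Q.1) => r • M1.mres L hQ l) =
        ⇑(φ Q).symm ∘ fun r : Γ(X, Q.1) => r • exteriorPower.ιMulti Γ(X, Q.1) n (⇑b) := funext fun r => by
      show r • M1.mres L hQ l = (φ Q).symm (r • _)
      rw [map_smul, hb, show M1.mres L hQ l = _ from hφ U Q hQ e]
      rfl
    rw [h2]
    exact h1
  constructor
  · intro r r' hrr
    obtain ⟨A, hyA, r, rfl⟩ := X.presheaf.exists_germ_eq r
    obtain ⟨A', hyA', r', rfl⟩ := X.presheaf.exists_germ_eq r'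
    have hB : y ∈ A ⊓ A' ⊓ U.1 := ⟨⟨hyA, hyA'⟩, hy⟩
    change X.presheaf.germ A y hyA r • gm L y hy l = X.presheaf.germ A' y hyA' r' • gm L y hy l at hrr
    rw [← X.presheaf.germ_res_apply (homOfLE (inf_le_left.trans inf_le_left : A ⊓ A' ⊓ U.1 ≤ A)) y hB r,
      ← X.presheaf.germ_res_apply (homOfLE (inf_le_left.trans inf_le_right : A ⊓ A' ⊓ U.1 ≤ A')) y hB r',
      ← Amp.gm_res (inf_le_right : A ⊓ A' ⊓ U.1 ≤ U.1) hB, ← Amp.gm_smul, ← Amp.gm_smul] at hrr
    obtain ⟨C, hyC, i₁, i₂, hC⟩ := L.presheaf.germ_eq y hB hB _ _ hrr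
    obtain ⟨Q, hQ, hyQ, hQC⟩ := exists_isAffineOpen_mem_and_subset (U := C) (x := y) hyC
    have hQC : Q ≤ C := hQC
    have h2 := congrArg (M1.mres L hQC) hC
    change M1.mres L hQC (M1.mres L i₁.le (_ • M1.mres L _ _)) =
      M1.mres L hQC (M1.mres L i₂.le (_ • M1.mres L _ _)) at h2
    rw [M1.mres_mres, M1.mres_mres, M1.mres_smul, M1.mres_smul, M1.mres_mres] at h2
    have h3 := congrArg (X.presheaf.germ Q y hyQ)
      ((key ⟨Q, hQ⟩ (hQC.trans (i₁.le.trans inf_le_right))).1 h2)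
    simp only [M1.ores, TopCat.Presheaf.germ_res_apply] at h3
    exact h3
  · intro m
    obtain ⟨A, hyA, m, rfl⟩ := L.presheaf.exists_germ_eq m
    obtain ⟨Q, hQ, hyQ, hQC⟩ := exists_isAffineOpen_mem_and_subset (U := A ⊓ U.1) (x := y) ⟨hyA, hy⟩
    have hQA : Q ≤ A := fun z hz => (hQC hz).1
    have hQU : Q ≤ U.1 := fun z hz => (hQC hz).2
    obtain ⟨r, hr⟩ := (key ⟨Q, hQ⟩ hQU).2 (M1.mres L hQA m)
    refine ⟨X.presheaf.germ Q y hyQ r, ?_⟩
    show X.presheaf.germ Q y hyQ r • gm L y hy l = L.presheaf.germ A y hyA m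
    rw [← Amp.gm_res hQU hyQ, ← Amp.gm_smul, ← M1.germ_mres L hQA hyQ m, ← hr]

variable {k : Type u} [Field k] [X.Over (Spec (CommRingCat.of k))]

theorem deg_eq_deg_det_pos (hX : CurveLike k X) {H : X.Modules} (hH : CohB1.IsAmple H) (hn : 0 < n) {E L : X.Modules}
    (hE : FlatMod.IsFinLocFreeOfRank n E) (hL : ExtPow.IsExtPow n E L) (hLi : PicF.IsInvertible L) :
    Curv2.deg k X E n = Curv2.deg k X L 1 := by
  classical
  haveI := hX.noetherian
  haveI := hX.separated
  obtain ⟨φL, hφL⟩ := hL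
  haveI hEq : Coh.IsQCoh E := (isCoh_of_ofRank hE).1
  haveI hLq : Coh.IsQCoh L := (isCoh_of_ofRank ((M2.isInvertible_iff_isFinLocFreeOfRank_one L).1 hLi)).1
  have hHi := hH.1
  let Z : Set X := {y | Curv2.IsWeakAssPoint (Coh.structureModule X) y} ∪ {g | ∀ y, y ⤳ g → y = g}
  have hZ : Z.Finite := Set.Finite.union
    ((WA.finite_weakAss (M1.isQCoh_structureModule X) (M1.isCoh_structureModule X).2
      (U := ⊤) (NoetherianSpace.isCompact _)).subset fun y hy => ⟨trivial, hy⟩) finite_maximal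
  obtain ⟨-, W, -, hZW, -, hW⟩ := Amp.exists_affine_hasSec_finite hH hZ (U := ⊤) (Set.subset_univ _)
  obtain ⟨D, t₀, hDW, hZD, ht₀⟩ := exists_isBas_finite hE hW hZ hZW
  obtain ⟨a, G, ⟨s, hs⟩, hZG, hGD, hG⟩ := Amp.exists_affine_hasSec_finite hH hZ (U := D) hZD
  let K := CohB1.tensorPow H (a + 1)
  have hK : PicF.IsInvertible K := M2.isInvertible_tensorPow hHi _
  subst hs
  set G := CohB1.genLocus K s
  let t : Fin n → Γ(E, G) := fun i => mres E hGD (t₀ i)
  have ht : IsBas E G t := ht₀.mres hGD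
  let ω : Γ(L, G) := (φL ⟨G, hG⟩).symm (exteriorPower.ιMulti _ n t)
  choose N₁ hN₁ using fun i => Amp.exists_extend_genLocus hK s E (t i)
  obtain ⟨N₂, hN₂⟩ := Amp.exists_extend_genLocus hK s L ω
  let N := Finset.univ.sup N₁ + N₂
  choose t' ht' using fun i => hN₁ i N ((Finset.le_sup (Finset.mem_univ i)).trans (Nat.le_add_right _ _))
  obtain ⟨σ, hσ⟩ := hN₂ (n * N) ((Nat.le_add_left _ _).trans (Nat.le_mul_of_pos_left _ hn))
  let E' := CohB1.tensorMod E (CohB1.tensorPow K N)
  let L' := CohB1.tensorMod L (CohB1.tensorPow K (n * N))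
  have hE' : FlatMod.IsFinLocFreeOfRank n E' := by
    simpa using M2.isFinLocFreeOfRank_tensor hE
      ((M2.isInvertible_iff_isFinLocFreeOfRank_one _).1 (M2.isInvertible_tensorPow hK N))
  have hL' : FlatMod.IsFinLocFreeOfRank 1 L' := by
    simpa using M2.isFinLocFreeOfRank_tensor ((M2.isInvertible_iff_isFinLocFreeOfRank_one L).1 hLi)
      ((M2.isInvertible_iff_isFinLocFreeOfRank_one _).1 (M2.isInvertible_tensorPow hK (n * N)))
  have main : ∀ x : X, ∃ (e : Fin n → E'.presheaf.stalk x) (g : (L'.presheaf.stalk x : Type u))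
      (P : Matrix (Fin n) (Fin n) (X.presheaf.stalk x)),
      Function.Bijective (Fintype.linearCombination (X.presheaf.stalk x) e) ∧ Gen g ∧
      P.det ∈ nonZeroDivisors (X.presheaf.stalk x) ∧ (x ∈ G → IsUnit P.det) ∧
      (∀ j, E'.presheaf.germ ⊤ x trivial (t' j) = ∑ i, P i j • e i) ∧
      L'.presheaf.germ ⊤ x trivial σ = P.det • g := by
    intro x
    obtain ⟨D₁, e₀, hxD₁, he₀⟩ := exists_isBas_nhd hE x
    obtain ⟨U₁, h₀, hxU₁, hU₁D, -, hh₀⟩ := Amp.exists_isGenerator hK (V := D₁) hxD₁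
    obtain ⟨V, hV, hxV, hVU₁⟩ := exists_isAffineOpen_mem_and_subset (U := U₁) (x := x) hxU₁
    have hVU : V ≤ U₁ := hVU₁
    let e : Fin n → Γ(E, V) := fun i => mres E (hVU.trans hU₁D) (e₀ i)
    have he : IsBas E V e := he₀.mres _
    let h : Γ(K, V) := res K hVU h₀
    have hh : IsGenerator h := Amp.isGenerator_res hVU hh₀
    obtain ⟨b, hb⟩ := exists_basis_of_isBas he
    let l : Γ(L, V) := (φL ⟨V, hV⟩).symm (exteriorPower.ιMulti _ n e)
    let e' : Fin n → Γ(E', V) := fun i => tsec E (CohB1.tensorPow K N) (e i) (pw h N)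
    have he' : IsBas E' V e' := isBas_tsec he fun y hy => Amp.gen_pw hK hy h N (Amp.gen_of_isGenerator hh hy)
    let g' : Γ(L', V) := tsec L (CohB1.tensorPow K (n * N)) l (pw h (n * N))
    have hlgen : ∀ (y : X) (hy : y ∈ V), Gen (gm L y hy l) := gen_top_wedge φL hφL ⟨V, hV⟩ he
    have hg' : ∀ (y : X) (hy : y ∈ V), Gen (gm L' y hy g') := fun y hy =>
      (Amp.gen_tsec_iff hLi (M2.isInvertible_tensorPow hK _) hy _ _).2
        ⟨hlgen y hy, Amp.gen_pw hK hy h _ (Amp.gen_of_isGenerator hh hy)⟩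
    choose P hP using fun j => (he' V le_rfl).2 (mres E' le_top (t' j))
    let PM : Matrix (Fin n) (Fin n) Γ(X, V) := Matrix.of fun i j => P j i
    have hσV : ∃ d : Γ(X, V), d • g' = mres L' le_top σ := by
      have hb1 : IsBas (r := 1) L' V fun _ => g' := isBas_of_stalk fun y hy => by
        have : (fun c : Fin 1 → X.presheaf.stalk y => ∑ i, c i • (L'.presheaf.germ V y hy g' : L'.presheaf.stalk y)) =
            (fun r : X.presheaf.stalk y => r • gm L' y hy g') ∘ fun c => c 0 := by funext c; simp [gm]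
        rw [this]
        exact (hg' y hy).comp (Equiv.funUnique (Fin 1) _).bijective
      obtain ⟨c, hc⟩ := (hb1 V le_rfl).2 (mres L' le_top σ)
      refine ⟨c 0, ?_⟩
      rw [← hc]
      simp [M1.mres_id]
    obtain ⟨d, hd⟩ := hσV
    have hVG : IsAffineOpen (V ⊓ G) := hV.inf hG
    obtain ⟨c, hc⟩ := (hh (V ⊓ G) inf_le_left).2 (res K inf_le_right (res K (le_top : G ≤ ⊤) (Amp.gval s)))
    change c • res K (inf_le_left : V ⊓ G ≤ V) h = _ at hc
    choose T hT using fun j => (he (V ⊓ G) inf_le_left).2 (mres E inf_le_right (t j))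
    have hpwN : ∀ m, res (CohB1.tensorPow K m) (inf_le_right : V ⊓ G ≤ G) (pw (res K le_top (Amp.gval s)) m) =
        c ^ m • res (CohB1.tensorPow K m) (inf_le_left : V ⊓ G ≤ V) (pw h m) := fun m => by
      rw [Amp.res_pw, Amp.res_pw, ← hc, Amp.pw_smul]
    have hPT : ∀ j i, ores (inf_le_left : V ⊓ G ≤ V) (P j i) = c ^ N * T j i := by
      intro j
      refine congrFun ((he' (V ⊓ G) inf_le_left).1 ?_)
      have h1 := congrArg (mres E' (inf_le_left : V ⊓ G ≤ V)) (hP j)
      simp only [M1.mres_id, mres_sum_smul, M1.mres_mres] at h1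
      have h2 : mres E' (le_top : V ⊓ G ≤ ⊤) (t' j) =
          ∑ i, (c ^ N * T j i) • mres E' (inf_le_left : V ⊓ G ≤ V) (e' i) := by
        rw [← M1.mres_mres E' (le_top : G ≤ ⊤) (inf_le_right : V ⊓ G ≤ G)]
        refine (congrArg (mres E' inf_le_right) (ht' j)).trans ?_
        refine (M2.res_tsec (inf_le_right : V ⊓ G ≤ G) _ _).trans ?_
        rw [show res E (inf_le_right : V ⊓ G ≤ G) (t j) = ∑ i, T j i • mres E inf_le_left (e i) from (hT j).symm,
          hpwN, tsec_sum_left]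
        refine Finset.sum_congr rfl fun i _ => ?_
        rw [M2.tsec_smul_left, M2.tsec_smul_right, smul_smul, mul_comm]
        exact congrArg _ (M2.res_tsec (inf_le_left : V ⊓ G ≤ V) _ _).symm
      exact h1.trans h2
    have hdT : ores (inf_le_left : V ⊓ G ≤ V) d = c ^ (n * N) * (Matrix.of fun i j => T j i).det := by
      have hgen : ∀ y (hy : y ∈ V ⊓ G), Gen (gm L' y hy (mres L' (inf_le_left : V ⊓ G ≤ V) g')) := fun y hy => by
        have := hg' y hy.1
        rwa [← Amp.gm_res (inf_le_left : V ⊓ G ≤ V) hy] at this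
      have key : ores (inf_le_left : V ⊓ G ≤ V) d • mres L' (inf_le_left : V ⊓ G ≤ V) g' =
          (c ^ (n * N) * (Matrix.of fun i j => T j i).det) • mres L' (inf_le_left : V ⊓ G ≤ V) g' := by
        rw [← M1.mres_smul, hd, M1.mres_mres, ← M1.mres_mres L' (le_top : G ≤ ⊤) (inf_le_right : V ⊓ G ≤ G)]
        refine (congrArg (mres L' inf_le_right) hσ).trans ?_
        refine (M2.res_tsec (inf_le_right : V ⊓ G ≤ G) _ _).trans ?_
        obtain ⟨b', hb'⟩ := exists_basis_of_isBas (he.mres (inf_le_left : V ⊓ G ≤ V))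
        have hωV : res L (inf_le_right : V ⊓ G ≤ G) ω =
            (Matrix.of fun i j => T j i).det • res L (inf_le_left : V ⊓ G ≤ V) l := by
          refine (hφL ⟨G, hG⟩ ⟨V ⊓ G, hVG⟩ inf_le_right t).trans ?_
          rw [show res L (inf_le_left : V ⊓ G ≤ V) l = _ from hφL ⟨V, hV⟩ ⟨V ⊓ G, hVG⟩ inf_le_left e]
          refine Eq.trans ?_ ((φL ⟨V ⊓ G, hVG⟩).symm.map_smul _ _)
          refine congrArg _ ((ιMulti_eq_det_smul b' _ (Matrix.of fun i j => T j i) fun j => ?_).trans ?_)
          · rw [hb']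
            exact (hT j).symm
          · rw [hb']
            rfl
        rw [hωV, hpwN, M2.tsec_smul_left, M2.tsec_smul_right, smul_smul]
        exact (congrArg (· • _) (mul_comm _ _)).trans
          (congrArg _ (M2.res_tsec (inf_le_left : V ⊓ G ≤ V) _ _).symm)
      refine TopCat.Presheaf.section_ext X.sheaf _ _ _ fun y hy => (hgen y hy).1 ?_
      have := congrArg (gm L' y hy) key
      rwa [Amp.gm_smul, Amp.gm_smul] at this
    have hZG' : ∀ y, Curv2.IsWeakAssPoint (Coh.structureModule X) y → y ∈ G := fun y hy => hZG (Or.inl hy)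
    have hdet : PM.det = d := by
      refine sub_eq_zero.1 (eq_zero_of_ores hV hZG' _ ?_)
      rw [map_sub, sub_eq_zero, hdT, RingHom.map_det]
      rw [show (X.presheaf.map (homOfLE (inf_le_left : V ⊓ G ≤ V)).op).hom.mapMatrix PM =
        c ^ N • (Matrix.of fun i j => T j i) from by ext i j; exact hPT j i]
      rw [Matrix.det_smul, Fintype.card_fin, ← pow_mul, mul_comm N n]
    have hσgen : ∀ (y : X) (hy : y ∈ G), Gen (gm L' y (U := ⊤) trivial σ) := fun y hy => by
      rw [← Amp.gm_res (le_top : G ≤ ⊤) hy, hσ]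
      refine (Amp.gen_tsec_iff hLi (M2.isInvertible_tensorPow hK _) hy _ _).2 ⟨?_, Amp.gen_pw hK hy _ _ ?_⟩
      · exact gen_top_wedge φL hφL ⟨G, hG⟩ ht y hy
      · rw [Amp.gm_res]
        exact (Amp.mem_genLocus_iff hK s).1 hy
    have hσx : ∀ (y : X) (hy : y ∈ V), gm L' y (U := ⊤) trivial σ =
        X.presheaf.germ V y hy PM.det • gm L' y hy g' := fun y hy => by
      rw [hdet, ← Amp.gm_smul, hd]
      exact (Amp.gm_res (le_top : V ≤ ⊤) hy σ).symm
    have hunit : ∀ (y : X) (hy : y ∈ V), y ∈ G → IsUnit (X.presheaf.germ V y hy PM.det) := fun y hy hyG =>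
      gen_of_smul_eq (hg' y hy) (hσgen y hyG) (hσx y hy)
    refine ⟨fun i => E'.presheaf.germ V x hxV (e' i), gm L' x hxV g', PM.map (X.presheaf.germ V x hxV).hom,
      isBas_bij he' hxV, hg' x hxV, ?_, ?_, fun j => ?_, ?_⟩
    · rw [← RingHom.mapMatrix_apply, ← RingHom.map_det]
      exact WA.germ_mem_nonZeroDivisors hV hxV _ fun y hy _ hwa => hunit y hy (hZG' y hwa)
    · intro hxG
      rw [← RingHom.mapMatrix_apply, ← RingHom.map_det]
      exact hunit x hxV hxG
    · rw [← M1.germ_mres E' (le_top : V ≤ ⊤) hxV, ← hP j]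
      simp only [M1.mres_id, germ_sum_smul]
      rfl
    · rw [← RingHom.mapMatrix_apply, ← RingHom.map_det]
      exact hσx x hxV
  choose e g P he hg hnzd hunit ht'' hσ'' using main
  obtain ⟨S, hS, hScl⟩ := exists_finset_closedPoints hX.dim (C := (G : Set X)ᶜ) G.isOpen.isClosed_compl
    fun y hy hyG => hyG (hZG (Or.inr hy))
  have hu : ∀ x : X, x ∉ S → IsUnit (P x).det := fun x hx => hunit x (by
    by_contra hxG
    exact hx (Finset.mem_coe.1 (hS ▸ hxG : x ∈ (S : Set X))))
  have h1 := deg_eq_sum hX hE' t' (fun x => (P x).det) hnzd S hScl hu fun x => ⟨e x, P x, he x, rfl, ht'' x⟩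
  have h2 := deg_eq_sum hX hL' (fun _ => σ) (fun x => (P x).det) hnzd S hScl hu fun x =>
    ⟨fun _ => g x, Matrix.diagonal fun _ => (P x).det, by
      have : ⇑(Fintype.linearCombination (X.presheaf.stalk x) fun _ : Fin 1 => g x) =
          (fun r : X.presheaf.stalk x => r • g x) ∘ fun c => c 0 := by
        funext c; simp [Fintype.linearCombination_apply]
      rw [this]
      exact (hg x).comp (Equiv.funUnique (Fin 1) _).bijective, by simp, fun j => by
      simp [hσ'' x, Subsingleton.elim j 0]⟩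
  have hd1 : Curv2.deg k X E' n = Curv2.deg k X E n + n * Curv2.deg k X (CohB1.tensorPow K N) 1 := by
    have := hX.deg_tensor hE ((M2.isInvertible_iff_isFinLocFreeOfRank_one _).1 (M2.isInvertible_tensorPow hK N))
    rw [Nat.mul_one, Nat.cast_one, one_mul] at this
    exact this
  have hd2 : Curv2.deg k X L' 1 = Curv2.deg k X L 1 + Curv2.deg k X (CohB1.tensorPow K (n * N)) 1 :=
    hX.deg_tensor_invertible hLi (M2.isInvertible_tensorPow hK _)
  rw [hX.deg_tensorPow hK] at hd1 hd2
  push_cast at hd2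
  linear_combination h1 - h2 - hd1 + hd2

end Groth.Agent.DetDeg13
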