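import Groth.Agent.Lib.CurveCoh17.Degree
import Groth.Agent.Lib.CurveCoh17.Integral
import Groth.Agent.Lib.Lattice26.DetCokerGlobal
import Groth.Agent.Lib.Ample18.Gen
import Mathlib.RingTheory.LocalRing.Length

/-!
# The degree as the order of a determinant
-/

set_option autoImplicit false
set_option linter.style.haveILetI false
set_option backward.isDefEq.respectTransparency false
set_option backward.isDefEq.respectTransparency.types false
set_option maxHeartbeats 1000000

universe u

open CategoryTheory CategoryTheory.Limits AlgebraicGeometry TopologicalSpace Opposite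

noncomputable section

namespace Groth.Agent.DetDeg13

open Groth.Agent.M1 Groth.Agent.CurveCoh17 Groth.Agent.P1Split

variable {k : Type u} [Field k] {X : Scheme.{u}} [X.Over (Spec (CommRingCat.of k))]

attribute [local instance] stalkMod

/-- The contribution of a point to the degree of a module with sections of determinant `δ` there. -/
def mult (k : Type u) [Field k] [X.Over (Spec (CommRingCat.of k))] (x : X) (δ : X.presheaf.stalk x) : ℕ :=
  letI : Algebra k (X.presheaf.stalk x) := (stalkRingMap k x).toAlgebra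
  (Module.length (X.presheaf.stalk x) (X.presheaf.stalk x ⧸ Ideal.span {δ}) *
    Module.length (IsLocalRing.ResidueField k) (IsLocalRing.ResidueField (X.presheaf.stalk x))).toNat

theorem finrank_eq_mult {n : ℕ} {x : X} {C : Type u} [AddCommGroup C] [Module (X.presheaf.stalk x) C] [Module k C]
    (hk : ∀ (a : k) (c : C), a • c = stalkRingMap k x a • c) [Module.Finite k C] [IsNoetherianRing (X.presheaf.stalk x)]
    (P : Matrix (Fin n) (Fin n) (X.presheaf.stalk x)) (hP : P.det ∈ nonZeroDivisors (X.presheaf.stalk x))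
    (q : (Fin n → X.presheaf.stalk x) →ₗ[X.presheaf.stalk x] C) (hq : Function.Surjective q)
    (hker : LinearMap.ker q = LinearMap.range (Lattice26.mulAct P (X.presheaf.stalk x))) :
    Module.finrank k C = mult k x P.det := by
  letI : Algebra k (X.presheaf.stalk x) := (stalkRingMap k x).toAlgebra
  haveI : IsScalarTower k (X.presheaf.stalk x) C := IsScalarTower.of_algebraMap_smul fun a c => (hk a c).symm
  have h1 := IsLocalRing.length_restrictScalars k (X.presheaf.stalk x) C
  rw [Module.length_eq_finrank] at h1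
  rw [← ((Submodule.quotEquivOfEq _ _ hker.symm).trans (q.quotKerEquivOfSurjective hq)).length_eq,
    Lattice26.length_coker_eq_det P hP] at h1
  have h2 := congrArg ENat.toNat h1
  rwa [ENat.toNat_coe] at h2

/-- The degree of a module with sections generating it at the maximal points. -/
theorem deg_eq_sum (hX : CurveLike k X) {n : ℕ} {F : X.Modules} (hF : FlatMod.IsFinLocFreeOfRank n F)
    (t : Fin n → Γ(F, (⊤ : X.Opens))) (δ : ∀ x : X, X.presheaf.stalk x)
    (hδ : ∀ x, δ x ∈ nonZeroDivisors (X.presheaf.stalk x))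
    (S : Finset X) (hS : ∀ x ∈ S, IsClosed ({x} : Set X)) (hunit : ∀ x, x ∉ S → IsUnit (δ x))
    (hloc : ∀ x : X, ∃ (e : Fin n → F.presheaf.stalk x) (P : Matrix (Fin n) (Fin n) (X.presheaf.stalk x)),
      Function.Bijective (Fintype.linearCombination (X.presheaf.stalk x) e) ∧ P.det = δ x ∧
      ∀ j, F.presheaf.germ ⊤ x trivial (t j) = ∑ i, P i j • e i) :
    Curv2.deg k X F n = ∑ x ∈ S, (mult k x (δ x) : ℤ) := by
  classical
  haveI := hX.noetherian
  let φ : FlatMod.freeMod X n ⟶ F := Sigma.desc fun i => secHom (t i)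
  let b : Fin n → Γ(FlatMod.freeMod X n, (⊤ : X.Opens)) := fun i =>
    (Sigma.ι (fun _ : Fin n => Coh.structureModule X) i).app ⊤ (one ⊤)
  have hb : IsBas (FlatMod.freeMod X n) ⊤ b :=
    isBas_coprod (fun _ : Fin n => Coh.structureModule X) (fun _ => one ⊤) fun _ => isGen_one ⊤
  have hφb : ∀ i, φ.app ⊤ (b i) = t i := fun i => by
    show φ.app ⊤ _ = t i
    rw [← CategoryTheory.comp_apply, ← Scheme.Modules.Hom.comp_app, Sigma.ι_desc, secHom_app_one]
  have key : ∀ x : X, ∃ (q : (Fin n → X.presheaf.stalk x) →ₗ[X.presheaf.stalk x] (cokernel φ).presheaf.stalk x)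
      (P : Matrix (Fin n) (Fin n) (X.presheaf.stalk x)), Function.Surjective q ∧ P.det = δ x ∧
        LinearMap.ker q = LinearMap.range (Lattice26.mulAct P (X.presheaf.stalk x)) ∧
        Function.Injective (stalkLin φ x) := fun x => by
    obtain ⟨e, P, he, hPd, ht⟩ := hloc x
    let Le := LinearEquiv.ofBijective (Fintype.linearCombination (X.presheaf.stalk x) e) he
    let Lb := LinearEquiv.ofBijective (Fintype.linearCombination (X.presheaf.stalk x)
      fun i => ((FlatMod.freeMod X n).presheaf.germ ⊤ x trivial (b i) : (FlatMod.freeMod X n).presheaf.stalk x))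
      (hb.stalk (x := x) trivial)
    have hcomm : ∀ c, stalkLin φ x (Lb c) = Le (Lattice26.mulAct P (X.presheaf.stalk x) c) := fun c => by
      show stalkLin φ x (∑ i, c i • (FlatMod.freeMod X n).presheaf.germ ⊤ x trivial (b i)) =
        ∑ i, Lattice26.mulAct P (X.presheaf.stalk x) c i • e i
      rw [map_sum]
      have : ∀ i, stalkLin φ x ((FlatMod.freeMod X n).presheaf.germ ⊤ x trivial (b i)) = ∑ l, P l i • e l :=
        fun i => by
          show (stalkAb x).map φ _ = _
          rw [germ_naturality, hφb]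
          exact ht i
      simp only [map_smul, this, Finset.smul_sum, Lattice26.mulAct_apply, Finset.sum_smul, smul_eq_mul]
      rw [Finset.sum_comm]
      refine Finset.sum_congr rfl fun l _ => Finset.sum_congr rfl fun i _ => ?_
      rw [smul_smul, mul_comm]
    refine ⟨(stalkLin (cokernel.π φ) x).comp Le.toLinearMap, P, ?_, hPd, ?_, ?_⟩
    · exact ((epi_iff_stalk (cokernel.π φ)).1 inferInstance x).comp Le.surjective
    · ext c
      constructor
      · intro hc
        obtain ⟨a, ha⟩ := (exact_iff_stalk_eq_zero (ShortComplex.mk φ (cokernel.π φ) (cokernel.condition φ))).1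
          (ShortComplex.exact_cokernel φ) x (Le c) hc
        obtain ⟨a', rfl⟩ := Lb.surjective a
        exact ⟨a', Le.injective ((hcomm a').symm.trans ha)⟩
      · rintro ⟨a, rfl⟩
        show stalkLin (cokernel.π φ) x (Le _) = 0
        rw [← hcomm, ← stalkLin_comp, cokernel.condition]
        show (stalkAb x).map (0 : FlatMod.freeMod X n ⟶ cokernel φ) _ = 0
        rw [Functor.map_zero]
        rfl
    · intro a a' h
      obtain ⟨c, rfl⟩ := Lb.surjective a
      obtain ⟨c', rfl⟩ := Lb.surjective a'
      rw [hcomm, hcomm] at h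
      rw [Lattice26.injective_mulAct P (hPd ▸ hδ x) (Le.injective h)]
  have hK : SuppIn (kernel φ) S := ⟨hS, fun x _ a => by
    obtain ⟨q, P, -, -, -, hinj⟩ := key x
    exact eq_zero_stalk_kernel φ x hinj a⟩
  have hC : SuppIn (cokernel φ) S := ⟨hS, fun x hx a => by
    obtain ⟨q, P, hq, hPd, hker, -⟩ := key x
    obtain ⟨c, rfl⟩ := hq a
    have : c ∈ LinearMap.range (Lattice26.mulAct P (X.presheaf.stalk x)) := by
      obtain ⟨u, hu⟩ := hPd ▸ hunit x hx
      refine ⟨Lattice26.mulAct P.adjugate (X.presheaf.stalk x) ((↑u⁻¹ : X.presheaf.stalk x) • c), ?_⟩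
      rw [(Lattice26.mulAct_det P _ _).1, ← hu, smul_smul, Units.mul_inv, one_smul]
    rw [← hker] at this
    exact this⟩
  obtain ⟨hk0, hc0, he⟩ := euler_sub φ (hX.adm (isCoh_of_ofRank (M2.isFinLocFreeOfRank_freeMod X n)))
    (hX.adm (isCoh_of_ofRank hF)) hK hC
  haveI : Subsingleton (Coh.HH X (kernel φ) 0) := ⟨fun a a' => (hK.h0Equiv k).injective (funext fun x => by
    obtain ⟨q, P, -, -, -, hinj⟩ := key x.1
    exact (eq_zero_stalk_kernel φ x.1 hinj _).trans (eq_zero_stalk_kernel φ x.1 hinj _).symm)⟩
  rw [Module.finrank_zero_of_subsingleton (M := Coh.HH X (kernel φ) 0), Nat.cast_zero, sub_zero,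
    hX.euler_freeMod] at he
  rw [Curv2.deg, he, (hC.h0Equiv k).finrank_eq]
  haveI : ∀ x : S, Module.Finite k ((cokernel φ).presheaf.stalk (x : X)) := hC.finite_stalk hc0
  rw [Module.finrank_pi_fintype, Nat.cast_sum, ← Finset.sum_coe_sort S]
  refine Finset.sum_congr rfl fun x _ => congrArg Nat.cast ?_
  obtain ⟨q, P, hq, hPd, hker, -⟩ := key x.1
  rw [← hPd]
  exact finrank_eq_mult (fun _ _ => rfl) P (hPd ▸ hδ x.1) q hq hker

end Groth.Agent.DetDeg13
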